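import Cfsg.Agent.LeechUnitary.Generic
import Cfsg.Agent.SporStruct.CoPacked
import Cfsg.Agent.Lib.Leech.CodeUnique
import Cfsg.Agent.Lib.Leech.Decomp

/-!
Certificates for the comparison of a subgroup of `Co0` with `PSU`.
-/

set_option autoImplicit false

namespace Cfsg.Agent.LeechUnitary

open Cfsg Cfsg.Agent.Unitary Cfsg.Agent.Leech
open Cfsg.Agent.SporStruct CoMatrix
open Cfsg.Agent.Golay (pt idx idx_lt pt_idx idx_pt)

/-- A digit of a packed table. -/
def dig (w z k : ℕ) : ℕ := (z >>> (w * k)) % 2 ^ w

/-- The union of bits. -/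
def maskL : List ℕ → ℕ
  | [] => 0
  | x :: xs => 1 <<< x ||| maskL xs

theorem testBit_maskL : ∀ (L : List ℕ) (m : ℕ), (maskL L).testBit m = true ↔ m ∈ L
  | [], m => by simp [maskL]
  | x :: xs, m => by
    rw [maskL, Nat.testBit_or, Bool.or_eq_true, testBit_maskL xs m, Nat.one_shiftLeft,
      Nat.testBit_two_pow, decide_eq_true_eq, List.mem_cons, eq_comm]

/-- The tables of a certificate. -/
structure Cert (F : Type) (n : ℕ) where
  N : ℕ
  M : ℕ
  K : ℕ
  b : ℕ
  dec : ℕ → F
  enc : F → ℕ
  scal : List F
  c₀ : F
  pts : ℕ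
  look : ℕ
  masks : ℕ
  planes : List (List ℕ)
  triples : ℕ
  par : ℕ
  vecs : ℕ
  rank : ℕ
  unrank : ℕ
  tabs : List (List (List ℤ))
  cens : List ℕ
  sigma : List ℕ
  tau : List ℕ
  base : List (List ℤ)
  basis : List ℕ
  coef : List (List ℤ)
  den : ℕ

namespace Cert

variable {F : Type} [Field F] [Fintype F] [DecidableEq F] {n : ℕ} (C : Cert F n)

/-- The vector with a code. -/
def vec (m : ℕ) : Fin n → F := fun i => C.dec (m / C.b ^ (i : ℕ) % C.b)

/-- The code of a vector. -/
def code (x : Fin n → F) : ℕ := (List.finRange n).foldr (fun i m => C.enc (x i) + C.b * m) 0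

/-- The vector of a point. -/
def pv (p : ℕ) : Fin n → F := C.vec (dig 16 C.pts p)

/-- Incidence. -/
def mask (i : ℕ) : ℕ := dig C.M C.masks i

/-- The coded vector of an object. -/
def xc (i : ℕ) : ℕ := dig 96 C.vecs i

/-- The coordinates of an object. -/
def xl (i : ℕ) : List ℤ := (List.range 24).map fun k => (dig 4 (C.xc i) k : ℤ) - 8

/-- The centre of a generator. -/
def cen (k : ℕ) : ℕ := C.cens.getD k 0

/-- The image of a vector under a generator. -/
def act (q k : ℕ) (x : Fin n → F) : Fin n → F :=
  x + (C.c₀ * herm q x (C.pv (C.cen k))) • C.pv (C.cen k)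

/-- Equality of vectors, computed. -/
def veq (x y : Fin n → F) : Bool := decide (∀ i, x i = y i)

theorem veq_iff {x y : Fin n → F} : veq x y = true ↔ x = y := by
  simp [veq, funext_iff]

/-- Points: isotropic, and found again from every multiple. -/
def okPts (q : ℕ) : Bool :=
  (List.range C.M).all fun p => decide (herm q (C.pv p) (C.pv p) = 0) &&
    C.scal.all fun l => dig 16 C.look (C.code (l • C.pv p)) == p + 1

/-- Every isotropic vector is a multiple of a point. -/
def okComplete (q : ℕ) : Bool :=
  decide (C.dec 0 = 0) && dig 16 C.look 0 == 0 && (List.range (C.b ^ n)).all fun m =>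
    m == 0 || (!decide (herm q (C.vec m) (C.vec m) = 0)) ||
      (decide (dig 16 C.look m - 1 < C.M) &&
        C.scal.any fun l => veq (C.vec m) (l • C.pv (dig 16 C.look m - 1)))

/-- Masks. -/
def okMasks : Bool :=
  C.planes.length == C.N && C.planes.zipIdx.all fun e =>
    e.1.length == C.K && decide (e.1.Nodup) && e.1.all (fun p => decide (p < C.M)) &&
      maskL e.1 == C.mask e.2

/-- The masks are sorted. -/
def okSorted : Bool := (List.range (C.N - 1)).all fun i => decide (C.mask i < C.mask (i + 1))

/-- Every point is cut out by three objects. -/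
def okSep : Bool :=
  (List.range C.M).all fun p =>
    decide (dig 16 C.triples (3 * p) < C.N) && decide (dig 16 C.triples (3 * p + 1) < C.N) &&
      decide (dig 16 C.triples (3 * p + 2) < C.N) &&
        (C.mask (dig 16 C.triples (3 * p)) &&& C.mask (dig 16 C.triples (3 * p + 1)) &&&
          C.mask (dig 16 C.triples (3 * p + 2))) == 1 <<< p

/-- The spanning tree. -/
def okTree (q : ℕ) : Bool :=
  C.cen 0 == 0 && decide (0 < C.M) && (List.range C.M).all fun p => p == 0 ||
    (decide (dig 16 C.par p / 16 < p) && decide (dig 16 C.par p % 16 < C.cens.length) &&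
      veq (C.act q (dig 16 C.par p % 16) (C.pv (dig 16 C.par p / 16))) (C.pv p))

/-- The permutation of points of a generator. -/
def okTau (q k : ℕ) : Bool :=
  decide (C.cen k < C.M) && (List.range C.M).all fun p =>
    let r := dig 16 (C.tau.getD k 0) p
    decide (r < C.M) && C.scal.any fun l => veq (C.act q k (C.pv p)) (l • C.pv r)

/-- The incidence is respected. -/
def okInc (k : ℕ) : Bool :=
  let T := C.tau.getD k 0
  let s := C.sigma.getD k 0
  C.planes.zipIdx.all fun e =>
    let j := dig 16 s e.2
    decide (j < C.N) &&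
      (let m := C.mask j; e.1.all fun p => m.testBit (dig 16 T p))

/-- The objects are distinct lattice vectors of norm 32. -/
def okVecs : Bool :=
  ((List.range C.N).all fun i => inLB (C.xl i) && decide (dotL (C.xl i) (C.xl i) = 32) &&
    dig 16 C.unrank (dig 16 C.rank i) == i && decide (dig 16 C.rank i < C.N)) &&
  (List.range (C.N - 1)).all fun k =>
    decide (C.xc (dig 16 C.unrank k) < C.xc (dig 16 C.unrank (k + 1)))

/-- A generator of `Co0` fixing the base. -/
def okTab (k : ℕ) : Bool :=
  let T := C.tabs.getD k []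
  checkMap T && checkMap (transpL T) && C.base.all fun u => decide (mapV T u = u)

/-- The table moves the objects as recorded. -/
noncomputable def okMove (k : ℕ) : Bool :=
  let P := packT (C.tabs.getD k [])
  let s := C.sigma.getD k 0
  (List.range C.N).all fun i => decide (mapP P (C.xl i) = C.xl (dig 16 s i))

/-- The base and the objects span. -/
def okSpan : Bool :=
  (C.base.all fun u => inLB u && decide (u.length = 24)) &&
  C.basis.all (fun i => decide (i < C.N)) &&
  (List.range 24).all fun k =>
    decide (combR (C.coef.getD k []) (C.base ++ C.basis.map C.xl) =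
      (List.range 24).map fun j => if j = k then 8 * (C.den : ℤ) else 0)

/-- All checks. -/
structure Ok (q : ℕ) : Prop where
  scal : ∀ l : F, l ≠ 0 → l ∈ C.scal
  scal0 : (0 : F) ∉ C.scal
  dec_enc : ∀ a : F, C.dec (C.enc a) = a
  enc_zero : C.enc 0 = 0
  enc_lt : ∀ a : F, C.enc a < C.b
  den_pos : C.den ≠ 0
  trace : C.c₀ + C.c₀ ^ q = 0
  span : ∀ c : F, c + c ^ q = 0 → ∃ k : ℕ, c = k • C.c₀
  pts : C.okPts q = true
  complete : C.okComplete q = true
  masks : C.okMasks = true
  sorted : C.okSorted = true
  sep : C.okSep = true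
  tree : C.okTree q = true
  tau : ∀ k < C.cens.length, C.okTau q k = true
  inc : ∀ k < C.cens.length, C.okInc k = true
  vecs : C.okVecs = true
  tab : ∀ k < C.cens.length, C.okTab k = true
  move : ∀ k < C.cens.length, C.okMove k = true
  spans : C.okSpan = true

end Cert

end Cfsg.Agent.LeechUnitary
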