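import Cfsg.Agent.LeechUnitary.Data4

/-!
Kernel checks of the certificate, part A.
-/

set_option autoImplicit false
set_option maxRecDepth 100000

namespace Cfsg.Agent.LeechUnitary.U4

theorem pts_ok : cert.okPts 3 = true := by decide +kernel
theorem complete_ok : cert.okComplete 3 = true := by decide +kernel
theorem masks_ok : cert.okMasks = true := by decide +kernel
theorem sorted_ok : cert.okSorted = true := by decide +kernel
theorem sep_ok : cert.okSep = true := by decide +kernel
theorem tree_ok : cert.okTree 3 = true := by decide +kernel
theorem vecs_ok : cert.okVecs = true := by decide +kernel
theorem span_ok : cert.okSpan = true := by decide +kernel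

end Cfsg.Agent.LeechUnitary.U4
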