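import Cfsg.Agent.LeechUnitary.Data4

/-!
Kernel checks of the certificate, part B.
-/

set_option autoImplicit false
set_option maxRecDepth 100000

namespace Cfsg.Agent.LeechUnitary.U4

theorem tau_0 : cert.okTau 3 0 = true := by decide +kernel
theorem inc_0 : cert.okInc 0 = true := by decide +kernel
theorem tab_0 : cert.okTab 0 = true := by decide +kernel
theorem tau_1 : cert.okTau 3 1 = true := by decide +kernel
theorem inc_1 : cert.okInc 1 = true := by decide +kernel
theorem tab_1 : cert.okTab 1 = true := by decide +kernel
theorem tau_2 : cert.okTau 3 2 = true := by decide +kernel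
theorem inc_2 : cert.okInc 2 = true := by decide +kernel
theorem tab_2 : cert.okTab 2 = true := by decide +kernel
theorem tau_3 : cert.okTau 3 3 = true := by decide +kernel
theorem inc_3 : cert.okInc 3 = true := by decide +kernel
theorem tab_3 : cert.okTab 3 = true := by decide +kernel

end Cfsg.Agent.LeechUnitary.U4
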