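import Cfsg.Agent.LeechUnitary.Data4

/-!
Kernel checks of the certificate, part C.
-/

set_option autoImplicit false
set_option maxRecDepth 100000

namespace Cfsg.Agent.LeechUnitary.U4

theorem move_0 : cert.okMove 0 = true := by decide +kernel
theorem move_1 : cert.okMove 1 = true := by decide +kernel
theorem move_2 : cert.okMove 2 = true := by decide +kernel
theorem move_3 : cert.okMove 3 = true := by decide +kernel

end Cfsg.Agent.LeechUnitary.U4
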