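import Cfsg.Agent.LeechUnitary.Data6

/-!
Kernel checks of the certificate, part B.
-/

set_option autoImplicit false
set_option maxRecDepth 100000

namespace Cfsg.Agent.LeechUnitary.U6

open Cfsg.Agent.CosetEnum He

theorem tau_0 : cert.okTau 2 0 = true := by decide +kernel
theorem inc_0 : cert.okInc 0 = true := by decide +kernel
theorem tab_0 : cert.okTab 0 = true := by decide +kernel
theorem tau_1 : cert.okTau 2 1 = true := by decide +kernel
theorem inc_1 : cert.okInc 1 = true := by decide +kernel
theorem tab_1 : cert.okTab 1 = true := by decide +kernel
theorem tau_2 : cert.okTau 2 2 = true := by decide +kernel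
theorem inc_2 : cert.okInc 2 = true := by decide +kernel
theorem tab_2 : cert.okTab 2 = true := by decide +kernel
theorem tau_3 : cert.okTau 2 3 = true := by decide +kernel
theorem inc_3 : cert.okInc 3 = true := by decide +kernel
theorem tab_3 : cert.okTab 3 = true := by decide +kernel
theorem tau_4 : cert.okTau 2 4 = true := by decide +kernel
theorem inc_4 : cert.okInc 4 = true := by decide +kernel
theorem tab_4 : cert.okTab 4 = true := by decide +kernel
theorem tau_5 : cert.okTau 2 5 = true := by decide +kernel
theorem inc_5 : cert.okInc 5 = true := by decide +kernel
theorem tab_5 : cert.okTab 5 = true := by decide +kernel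
theorem tau_6 : cert.okTau 2 6 = true := by decide +kernel
theorem inc_6 : cert.okInc 6 = true := by decide +kernel
theorem tab_6 : cert.okTab 6 = true := by decide +kernel

end Cfsg.Agent.LeechUnitary.U6
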