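import Cfsg.Agent.LeechUnitary.Data6

/-!
Kernel checks of the certificate, part C.
-/

set_option autoImplicit false
set_option maxRecDepth 100000

namespace Cfsg.Agent.LeechUnitary.U6

open Cfsg.Agent.CosetEnum He

theorem move_0 : cert.okMove 0 = true := by decide +kernel
theorem move_1 : cert.okMove 1 = true := by decide +kernel
theorem move_2 : cert.okMove 2 = true := by decide +kernel
theorem move_3 : cert.okMove 3 = true := by decide +kernel
theorem move_4 : cert.okMove 4 = true := by decide +kernel
theorem move_5 : cert.okMove 5 = true := by decide +kernel
theorem move_6 : cert.okMove 6 = true := by decide +kernel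

end Cfsg.Agent.LeechUnitary.U6
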