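import Mathlib

/-!
The field with nine elements, by tables: the element with code `a + 3 b` is `a + b i`.
-/

set_option autoImplicit false
set_option maxRecDepth 100000

namespace Cfsg.Agent.LeechUnitary

/-- The field with nine elements. -/
inductive F9 where
  | f0
  | f1
  | f2
  | f3
  | f4
  | f5
  | f6
  | f7
  | f8
  deriving DecidableEq

namespace F9

/-- The code of an element. -/
def toN : F9 → ℕ
  | .f0 => 0
  | .f1 => 1
  | .f2 => 2
  | .f3 => 3
  | .f4 => 4
  | .f5 => 5
  | .f6 => 6
  | .f7 => 7
  | .f8 => 8

/-- The element with a code. -/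
def ofN : ℕ → F9
  | 1 => .f1
  | 2 => .f2
  | 3 => .f3
  | 4 => .f4
  | 5 => .f5
  | 6 => .f6
  | 7 => .f7
  | 8 => .f8
  | _ => .f0

/-- All elements. -/
def all : List F9 := [.f0, .f1, .f2, .f3, .f4, .f5, .f6, .f7, .f8]

/-- The nonzero elements. -/
def nonzero : List F9 := [.f1, .f2, .f3, .f4, .f5, .f6, .f7, .f8]

instance : Fintype F9 := ⟨⟨(all : List F9), by decide⟩, fun a => by cases a <;> decide⟩

instance : Add F9 := ⟨fun a b => ofN ((0x435102768354021687543210876102768435021687354210876543768435102687354021876543210 : ℕ) >>> (4 * (9 * a.toN + b.toN)) % 16)⟩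
instance : Mul F9 := ⟨fun a b => ofN ((0x615237480138624570582471360264318750327165840741852630453786120876543210000000000 : ℕ) >>> (4 * (9 * a.toN + b.toN)) % 16)⟩
instance : Zero F9 := ⟨.f0⟩
instance : One F9 := ⟨.f1⟩
instance : Neg F9 := ⟨fun a => ofN ((0x453786120 : ℕ) >>> (4 * a.toN) % 16)⟩
instance : Inv F9 := ⟨fun a => ofN ((0x783456210 : ℕ) >>> (4 * a.toN) % 16)⟩

instance : Field F9 where
  add_assoc := by decide +kernel
  zero_add := by decide +kernel
  add_zero := by decide +kernel
  add_comm := by decide +kernel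
  neg_add_cancel := by decide +kernel
  mul_assoc := by decide +kernel
  one_mul := by decide +kernel
  mul_one := by decide +kernel
  mul_comm := by decide +kernel
  left_distrib := by decide +kernel
  right_distrib := by decide +kernel
  zero_mul := by decide +kernel
  mul_zero := by decide +kernel
  exists_pair_ne := ⟨.f0, .f1, by decide⟩
  mul_inv_cancel := by decide +kernel
  inv_zero := by decide +kernel
  nsmul := nsmulRec
  zsmul := zsmulRec
  nnqsmul := _
  nnqsmul_def := fun _ _ => rfl
  qsmul := _
  qsmul_def := fun _ _ => rfl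

/-- Nine elements. -/
theorem card_eq : Fintype.card F9 = 9 := rfl

end F9

end Cfsg.Agent.LeechUnitary
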