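import Cfsg.Agent.Lib.Unitary.Center
import Cfsg.Agent.Lib.Unitary.Generation
import Cfsg.Agent.Lib.Unitary.Transvection

/-!
A group matched with `PSU` through the incidence of vectors and isotropic points.
-/

set_option autoImplicit false

namespace Cfsg.Agent.LeechUnitary

open Cfsg Cfsg.Agent.Unitary

variable {F : Type} [Field F] [Fintype F] {n q N M : ℕ}

/-- Incidence data: labels of objects, labelled isotropic points, incidence. -/
structure Data (α : Type*) (F : Type) (n N M : ℕ) where
  /-- the objects -/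
  x : Fin N → α
  /-- the points -/
  pv : Fin M → Fin n → F
  /-- the incidence -/
  mem : Fin N → Fin M → Prop

variable {G : Type*} [Group G] {α : Type*} [MulAction G α] (D : Data α F n N M)

/-- A pair moving the objects and the points compatibly. -/
def Compat (z : G × SU n F q) : Prop :=
  ∀ i, ∃ j, z.1 • D.x i = D.x j ∧ ∀ p, D.mem i p → ∃ r, D.mem j r ∧
    ∃ l : F, z.2 • D.pv p = l • D.pv r

/-- The compatible pairs. -/
def compatMonoid : Submonoid (G × SU n F q) where
  carrier := {z | Compat D z}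
  one_mem' := fun i => ⟨i, one_smul _ _, fun p hp => ⟨p, hp, 1, by simp⟩⟩
  mul_mem' := by
    intro a b ha hb i
    obtain ⟨j, hj, hjp⟩ := hb i
    obtain ⟨k, hk, hkp⟩ := ha j
    refine ⟨k, by rw [Prod.fst_mul, mul_smul, hj, hk], fun p hp => ?_⟩
    obtain ⟨r, hr, l, hl⟩ := hjp p hp
    obtain ⟨s, hs, l', hl'⟩ := hkp r hr
    refine ⟨s, hs, l * l', ?_⟩
    rw [Prod.snd_mul, mul_smul, hl, smul_comm, hl', smul_smul]

variable [Finite G]

/-- The subgroup of compatible pairs. -/
def compatGroup : Subgroup (G × SU n F q) where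
  toSubmonoid := compatMonoid D
  inv_mem' := by
    intro z hz
    have : z⁻¹ ∈ Submonoid.powers z :=
      (isOfFinOrder_of_finite z).mem_powers_iff_mem_zpowers.2
        (Subgroup.inv_mem _ (Subgroup.mem_zpowers z))
    exact (Submonoid.powers_le.2 hz : Submonoid.powers z ≤ compatMonoid D) this

theorem mem_compatGroup {z : G × SU n F q} : z ∈ compatGroup D ↔ Compat D z := Iff.rfl

/-- The properties needed for the comparison. -/
structure Good (q : ℕ) (c₀ : F) : Prop where
  faithful : ∀ g : G, (∀ i, g • D.x i = D.x i) → g = 1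
  mem_inj : ∀ i j, (∀ p, D.mem i p → D.mem j p) → i = j
  sep : ∀ p r, (∀ i, D.mem i p → D.mem i r) → p = r
  pv_inj : ∀ p r (l : F), D.pv p = l • D.pv r → p = r
  pv_ne : ∀ p, D.pv p ≠ 0
  x_inj : Function.Injective D.x
  cover : ∀ p, ∃ i, D.mem i p
  pv_iso : ∀ p, herm q (D.pv p) (D.pv p) = 0
  complete : ∀ u : Fin n → F, herm q u u = 0 → ∃ p, ∃ l : F, u = l • D.pv p
  trace : c₀ + c₀ ^ q = 0
  span : ∀ c : F, c + c ^ q = 0 → ∃ k : ℕ, c = k • c₀

variable (hF : Fintype.card F = q ^ 2) {c₀ : F}

omit [Finite G] in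
include hF in
theorem tv_mem_of_points (hD : Good (G := G) D q c₀) {K : Subgroup (SU n F q)}
    (hK : ∀ p, ∀ t : SU n F q, (∀ x, t • x = x + (c₀ * herm q x (D.pv p)) • D.pv p) → t ∈ K)
    (h32 : ¬ (n = 3 ∧ q = 2)) : K = ⊤ := by
  rw [eq_top_iff, ← closure_transvections hF h32, Subgroup.closure_le]
  rintro A ⟨u, c, hu, hA⟩
  by_cases hu0 : u = 0
  · have : A = 1 := eq_of_smul_eq_SU fun x => by
      show (((A : Matrix.SpecialLinearGroup (Fin n) F) : Matrix (Fin n) (Fin n) F)).mulVec x =
        (1 : SU n F q) • x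
      rw [hA, unitaryTransvection_mulVec hF, hu0, one_smul]
      simp
    rw [this]; exact K.one_mem
  have hact : ∀ x, A • x = x + (c * herm q x u) • u := fun x => by
    show (((A : Matrix.SpecialLinearGroup (Fin n) F) : Matrix (Fin n) (Fin n) F)).mulVec x = _
    rw [hA, unitaryTransvection_mulVec hF]
  have hc : c + c ^ q = 0 := trace_zero_of_preserves hF hu0 hu fun x y => by
    rw [← hA]; exact herm_smul_SU A x y
  obtain ⟨p, l, hl⟩ := hD.complete u hu
  obtain ⟨k, hk⟩ := hD.span (c * (l ^ (q + 1))) (by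
    rw [mul_pow, norm_fixed hF, ← add_mul, hc, zero_mul])
  have hiso := hD.pv_iso p
  have hpow : ∀ k : ℕ, ∀ x, (tv (c := c₀) hF hiso hD.trace : SU n F q) ^ k • x =
      x + ((k • c₀) * herm q x (D.pv p)) • D.pv p := by
    intro k
    induction k with
    | zero => intro x; simp
    | succ k ih =>
      intro x
      rw [pow_succ', mul_smul, ih, tv_smul, herm_add_left, herm_smul_left, hiso, mul_zero,
        add_zero, add_assoc, ← add_smul, succ_nsmul, add_mul]
  have hAk : A = (tv (c := c₀) hF hiso hD.trace : SU n F q) ^ k := eq_of_smul_eq_SU fun x => by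
    rw [hpow, hact, ← hk, hl, herm_smul_right hF, smul_smul, pow_succ]
    congr 2
    ring
  rw [hAk]
  exact K.pow_mem (hK p _ fun x => tv_smul hF hiso hD.trace x) k

include hF in
/-- Every element of `SU` has a compatible partner once a transvection at each point has one. -/
theorem surj_of_orbit (hD : Good (G := G) D q c₀) (h32 : ¬ (n = 3 ∧ q = 2))
    (root : Fin M) {R : ℕ} (g : Fin R → G) (t : Fin R → SU n F q)
    (hgt : ∀ k, Compat D (g k, t k)) (r₀ : Fin R)
    (hroot : ∀ x, t r₀ • x = x + (c₀ * herm q x (D.pv root)) • D.pv root)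
    (hpar : ∀ p : Fin M, p ≠ root → ∃ (k : Fin R) (p' : Fin M), p' < p ∧
      t k • D.pv p' = D.pv p) :
    ∀ h : SU n F q, ∃ g : G, Compat D (g, h) := by
  set P : Subgroup (SU n F q) := (compatGroup D).map (MonoidHom.snd G (SU n F q)) with hP
  have hgen : ∀ k, t k ∈ P := fun k => ⟨(g k, t k), hgt k, rfl⟩
  have key : ∀ p, ∀ s : SU n F q, (∀ x, s • x = x + (c₀ * herm q x (D.pv p)) • D.pv p) → s ∈ P := by
    intro p
    induction p using WellFoundedLT.induction with
    | _ p ih =>
      intro s hs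
      by_cases hp : p = root
      · subst hp
        rw [show s = t r₀ from eq_of_smul_eq_SU fun x => by rw [hs, hroot]]
        exact hgen _
      obtain ⟨k, p', hlt, hk⟩ := hpar p hp
      have h' := ih p' hlt (tv (c := c₀) hF (hD.pv_iso p') hD.trace)
        fun x => tv_smul hF (hD.pv_iso p') hD.trace x
      have : s = t k * tv (c := c₀) hF (hD.pv_iso p') hD.trace * (t k)⁻¹ := by
        refine eq_of_smul_eq_SU fun x => ?_
        rw [conj_tv hF, tv_smul, hs, hk]
      rw [this]
      exact P.mul_mem (P.mul_mem (hgen k) h') (P.inv_mem (hgen k))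
  intro h
  have hh : h ∈ P := by rw [tv_mem_of_points D hF hD key h32]; trivial
  obtain ⟨⟨a, b⟩, hab, rfl⟩ := hh
  exact ⟨a, hab⟩

include hF in
theorem iso_of_good (hn : 2 ≤ n) (hD : Good (G := G) D q c₀)
    (hsurj : ∀ h : SU n F q, ∃ g : G, Compat D (g, h))
    (hcard : Nat.card G = Nat.card (PSU n F q)) : Nonempty (G ≃* PSU n F q) := by
  choose f hf using hsurj
  have back : ∀ (h : SU n F q) (p r : Fin M) (m l : F), h • D.pv p = m • D.pv p →
      h • D.pv p = l • D.pv r → p = r := by
    intro h p r m l hm hl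
    have hm0 : m ≠ 0 := by
      rintro rfl
      rw [zero_smul, smul_eq_zero_iff_eq] at hm
      exact hD.pv_ne p hm
    refine hD.pv_inj p r (m⁻¹ * l) ?_
    rw [mul_smul, ← hl, hm, inv_smul_smul₀ hm0]
  have uniq : ∀ (g : G) (h : SU n F q), Compat D (g, h) → (∀ p, ∃ l : F, h • D.pv p = l • D.pv p) →
      g = 1 := by
    intro g h hc hp
    refine hD.faithful g fun i => ?_
    obtain ⟨j, hj, hjp⟩ := hc i
    have hij : i = j := hD.mem_inj i j fun p hi => by
      obtain ⟨r, hr, l, hl⟩ := hjp p hi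
      obtain ⟨m, hm⟩ := hp p
      rwa [back h p r m l hm hl]
    rw [hj, ← hij]
  have hmul : ∀ a b, f (a * b) = f a * f b := by
    intro a b
    have h1 : ((f (a * b))⁻¹ * (f a * f b), (1 : SU n F q)) ∈ compatGroup D := by
      have := (compatGroup D).mul_mem ((compatGroup D).inv_mem ((mem_compatGroup D).2 (hf (a * b))))
        ((compatGroup D).mul_mem ((mem_compatGroup D).2 (hf a)) ((mem_compatGroup D).2 (hf b)))
      simpa using this
    have := uniq _ 1 h1 fun p => ⟨1, by simp⟩
    exact (inv_mul_eq_one.1 this)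
  let φ : SU n F q →* G := MonoidHom.mk' f hmul
  have hker : φ.ker = Subgroup.center (SU n F q) := by
    ext h
    rw [MonoidHom.mem_ker]
    constructor
    · intro he
      have hc : Compat D ((1 : G), h) := he ▸ hf h
      have hfix : ∀ p, ∃ l : F, h • D.pv p = l • D.pv p := by
        intro p
        obtain ⟨i₀, hi₀⟩ := hD.cover p
        obtain ⟨j₀, -, hjp₀⟩ := hc i₀
        obtain ⟨r, -, l, hl⟩ := hjp₀ p hi₀
        refine ⟨l, hl.trans ?_⟩
        congr 2
        refine (hD.sep p r fun i hi => ?_).symm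
        obtain ⟨j, hj, hjp⟩ := hc i
        obtain ⟨r', hr', l', hl'⟩ := hjp p hi
        have hij : i = j := hD.x_inj ((one_smul G (D.x i)).symm.trans hj)
        subst hij
        have hl0 : l' ≠ 0 := by
          rintro rfl
          rw [zero_smul, smul_eq_zero_iff_eq] at hl'
          exact hD.pv_ne p hl'
        have : r' = r := by
          refine hD.pv_inj r' r (l'⁻¹ * l) ?_
          rw [mul_smul, ← hl, hl', inv_smul_smul₀ hl0]
        exact this ▸ hr'
      refine (mem_center_iff hF hn).2 ?_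
      obtain ⟨r, -, -, hr⟩ := scalar_of_fix_isotropic_lines hF hn (g := h) fun u hu => by
        obtain ⟨p, l, rfl⟩ := hD.complete u hu
        obtain ⟨m, hm⟩ := hfix p
        exact ⟨m, by rw [smul_comm, hm, smul_comm]⟩
      exact ⟨r, hr⟩
    · intro hh
      obtain ⟨r, hr⟩ := (mem_center_iff hF hn).1 hh
      exact uniq _ h (hf h) fun p => ⟨r, hr _⟩
  have e1 : PSU n F q ≃* φ.range :=
    (QuotientGroup.quotientMulEquivOfEq hker.symm).trans (QuotientGroup.quotientKerEquivRange φ)
  have htop : φ.range = ⊤ :=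
    Subgroup.eq_top_of_card_eq _ (by rw [← Nat.card_congr e1.toEquiv, hcard])
  exact ⟨((e1.trans (MulEquiv.subgroupCongr htop)).trans Subgroup.topEquiv).symm⟩

end Cfsg.Agent.LeechUnitary
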