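import Cfsg.Agent.SporStruct.LeechMcLMain
import Cfsg.Agent.Lib.Leech.CodeUnique
import Cfsg.Agent.Lib.Leech.Decomp

/-!
Orders and conjugacy of the stabilisers of the vertices of the McLaughlin configuration.
-/

set_option autoImplicit false

namespace Cfsg.Agent.LeechUnitary

open Cfsg Cfsg.Agent.Leech Cfsg.Agent.SporStruct
open scoped Pointwise

/-- The stabiliser of three vectors. -/
abbrev stab3 (u v x : leechLattice) : Subgroup Co0 :=
  MulAction.stabilizer Co0 u ⊓ MulAction.stabilizer Co0 v ⊓ MulAction.stabilizer Co0 x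

/-- Stabilisers of translated triples are isomorphic. -/
def stabTripleEquiv (g : Co0) {u v x u' v' x' : leechLattice} (hu : g • u = u') (hv : g • v = v')
    (hx : g • x = x') : ↥(stab3 u v x) ≃* ↥(stab3 u' v' x') where
  toFun a := ⟨g * a * g⁻¹, by
    refine ⟨⟨?_, ?_⟩, ?_⟩ <;> show (g * a * g⁻¹) • _ = _
    · rw [← hu, mul_smul, inv_smul_smul, mul_smul, show (a : Co0) • u = u from a.2.1.1]
    · rw [← hv, mul_smul, inv_smul_smul, mul_smul, show (a : Co0) • v = v from a.2.1.2]
    · rw [← hx, mul_smul, inv_smul_smul, mul_smul, show (a : Co0) • x = x from a.2.2]⟩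
  invFun b := ⟨g⁻¹ * b * g, by
    refine ⟨⟨?_, ?_⟩, ?_⟩ <;> show (g⁻¹ * b * g) • _ = _
    · rw [mul_smul, hu, mul_smul, show (b : Co0) • u' = u' from b.2.1.1, ← hu, inv_smul_smul]
    · rw [mul_smul, hv, mul_smul, show (b : Co0) • v' = v' from b.2.1.2, ← hv, inv_smul_smul]
    · rw [mul_smul, hx, mul_smul, show (b : Co0) • x' = x' from b.2.2, ← hx, inv_smul_smul]⟩
  left_inv a := Subtype.ext (by simp [mul_assoc])
  right_inv b := Subtype.ext (by simp [mul_assoc])
  map_mul' a b := Subtype.ext (by simp [mul_assoc])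

theorem card_stab3 {u v x : leechLattice} (hu : sqNorm (u : GolayPt → ℤ) = 48)
    (hv : sqNorm (v : GolayPt → ℤ) = 32) (huv : dotInt (u : GolayPt → ℤ) (v : GolayPt → ℤ) = 24)
    (hx : x ∈ mcConfig u v) : Nat.card ↥(stab3 u v x) = 3265920 := by
  set H := MulAction.stabilizer Co0 u ⊓ MulAction.stabilizer Co0 v with hH
  have ho : MulAction.orbit H x = mcConfig u v := by
    ext y
    constructor
    · rintro ⟨g, rfl⟩
      obtain ⟨h1, h2⟩ := g.2
      have h1' : (g : Co0) • u = u := h1
      have h2' : (g : Co0) • v = v := h2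
      rw [mem_mcConfig_iff hu] at hx ⊢
      obtain ⟨a, b, c⟩ := hx
      refine ⟨(sqNorm_smul _ x).trans a, ?_, ?_⟩
      · show dotInt (((g : Co0) • x : leechLattice) : GolayPt → ℤ) (u : GolayPt → ℤ) = 24
        conv_lhs => rw [← h1']
        rw [dotInt_smul, b]
      · show dotInt (((g : Co0) • x : leechLattice) : GolayPt → ℤ) (v : GolayPt → ℤ) = 16
        conv_lhs => rw [← h2']
        rw [dotInt_smul, c]
    · intro hy
      obtain ⟨g, h1, h2, h3⟩ := mcConfig_transitive codeUnique hu hv huv hx hy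
      exact ⟨⟨g, h1, h2⟩, h3⟩
  have hH' : Nat.card H = 898128000 := by
    have hd : sqNorm ((u - v : leechLattice) : GolayPt → ℤ) = 32 := by
      rw [AddSubgroup.coe_sub, sqNorm_sub, hu, hv, huv]; norm_num
    have hvd : dotInt (v : GolayPt → ℤ) ((u - v : leechLattice) : GolayPt → ℤ) = -8 := by
      rw [AddSubgroup.coe_sub, dotInt_comm, dotInt_sub_left', dotInt_self, hv, huv]; norm_num
    rw [← card_stab_pair codeUnique hv hd hvd]
    refine Nat.card_congr (Equiv.subtypeEquivRight fun g => ?_)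
    show (g • u = u ∧ g • v = v) ↔ (g • v = v ∧ g • (u - v) = u - v)
    constructor
    · rintro ⟨a, b⟩
      exact ⟨b, by rw [smul_sub', a, b]⟩
    · rintro ⟨a, b⟩
      rw [smul_sub', a, sub_left_inj] at b
      exact ⟨b, a⟩
  have h := Subgroup.card_mul_index (MulAction.stabilizer H x)
  rw [MulAction.index_stabilizer, ho, mcConfig_count codeUnique hu hv huv, hH'] at h
  have e : Nat.card (MulAction.stabilizer H x) = Nat.card ↥(stab3 u v x) :=
    Nat.card_congr
      { toFun := fun g => ⟨g.1.1, g.1.2, g.2⟩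
        invFun := fun g => ⟨⟨g.1, g.2.1⟩, g.2.2⟩
        left_inv := fun g => rfl
        right_inv := fun g => rfl }
  rw [← e]
  exact Nat.eq_of_mul_eq_mul_right (by norm_num : 0 < 275) (h.trans (by norm_num))

end Cfsg.Agent.LeechUnitary
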