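import Cfsg.Agent.LeechUnitary.Sound
import Cfsg.Agent.LeechUnitary.Check4A
import Cfsg.Agent.LeechUnitary.Check4B
import Cfsg.Agent.LeechUnitary.Check4C
import Cfsg.Agent.LeechUnitary.StabMcL
import Cfsg.Agent.Lib.UnitaryOrthogonal.KleinPSU

/-!
The stabiliser of a vertex of the McLaughlin configuration is `PSU₄(3)`.
-/

set_option autoImplicit false
set_option maxRecDepth 100000

namespace Cfsg.Agent.LeechUnitary.U4

open Cfsg Cfsg.Agent.Unitary Cfsg.Agent.Leech
open Cfsg.Agent.SporStruct CoMatrix
open Cfsg.Agent.Golay (pt idx idx_lt pt_idx idx_pt)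

theorem span_trace : ∀ c : F9, c + c ^ 3 = 0 → c ∈ [(0 : F9), F9.f3, F9.f3 + F9.f3] := by
  decide +kernel

theorem ok : cert.Ok 3 where
  scal := by decide +kernel
  scal0 := by decide +kernel
  dec_enc := by decide +kernel
  enc_zero := by decide +kernel
  enc_lt := by decide +kernel
  trace := by decide +kernel
  den_pos := by decide +kernel
  span := fun c hc => by
    have h := span_trace c hc
    simp only [List.mem_cons, List.not_mem_nil, or_false] at h
    rcases h with rfl | rfl | rfl
    · exact ⟨0, (zero_smul ℕ _).symm⟩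
    · exact ⟨1, (one_smul ℕ _).symm⟩
    · exact ⟨2, (two_nsmul _).symm⟩
  pts := pts_ok
  complete := complete_ok
  masks := masks_ok
  sorted := sorted_ok
  sep := sep_ok
  tree := tree_ok
  tau := fun k hk => by
    have : k < 4 := hk
    interval_cases k
    exacts [tau_0, tau_1, tau_2, tau_3]
  inc := fun k hk => by
    have : k < 4 := hk
    interval_cases k
    exacts [inc_0, inc_1, inc_2, inc_3]
  vecs := vecs_ok
  tab := fun k hk => by
    have : k < 4 := hk
    interval_cases k
    exacts [tab_0, tab_1, tab_2, tab_3]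
  move := fun k hk => by
    have : k < 4 := hk
    interval_cases k
    exacts [move_0, move_1, move_2, move_3]
  spans := span_ok

theorem base_eq : cert.base = [base.getD 0 [], base.getD 1 [], base.getD 2 []] := rfl

theorem base_vals :
    (∀ p, vecP (base.getD 0 []) p = if p = none then (5 : ℤ) else 1) ∧
    (∀ p, vecP (base.getD 1 []) p = (if p = none then (4 : ℤ) else 0) + if p = some 0 then 4 else 0) ∧
    (∀ p, vecP (base.getD 2 []) p =
      (if p = none then (4 : ℤ) else 0) + if p = some 1 then 4 else 0) := by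
  refine ⟨?_, ?_, ?_⟩ <;> decide +kernel

theorem base_ok : base.all (fun r => inLB r && decide (r.length = 24)) = true := by decide +kernel

theorem coe_base {j : ℕ} (hj : base.getD j [] ∈ base) :
    ((lat (base.getD j []) : leechLattice) : GolayPt → ℤ) = vecP (base.getD j []) := by
  have h := base_ok
  simp only [List.all_eq_true, Bool.and_eq_true, decide_eq_true_eq] at h
  exact coe_lat (h _ hj).2 (h _ hj).1

theorem lat_u : lat (base.getD 0 []) = std48 := by
  refine Subtype.ext ((coe_base (by decide +kernel)).trans (funext fun p => ?_))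
  rw [base_vals.1 p, coe_std48]

theorem lat_v : lat (base.getD 1 []) = std32 := by
  refine Subtype.ext ((coe_base (by decide +kernel)).trans (funext fun p => ?_))
  rw [base_vals.2.1 p, coe_std32]
  simp [four, Pi.single_apply]

theorem lat_x : lat (base.getD 2 []) = mcPoint := by
  refine Subtype.ext ((coe_base (by decide +kernel)).trans (funext fun p => ?_))
  rw [base_vals.2.2 p, coe_mcPoint]
  simp [four, Pi.single_apply]

theorem card_PSU_four : Nat.card (PSU 4 F9 3) = 3265920 := by
  have h := card_PSU (F := F9) (n := 4) (q := 3) (by rw [F9.card_eq]; rfl) (by omega)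
  rw [show Nat.gcd 4 (3 + 1) = 4 from rfl,
    show (3 : ℕ) ^ (4 * (4 - 1) / 2) * ∏ i ∈ Finset.range 4,
      (if Even i then 3 ^ (i + 1) + 1 else 3 ^ (i + 1) - 1) = 52254720 from by decide +kernel] at h
  change 4 * ((3 + 1) * Nat.card (PSU 4 F9 3)) = 52254720 at h
  generalize Nat.card (PSU 4 F9 3) = N at h ⊢
  omega

/-- The comparison. -/
theorem main (u v x : leechLattice) (hu : sqNorm (u : GolayPt → ℤ) = 48)
    (hv : sqNorm (v : GolayPt → ℤ) = 32)
    (huv : sqNorm ((u : GolayPt → ℤ) - (v : GolayPt → ℤ)) = 32) (hx : x ∈ mcConfig u v)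
    (F : Type) [Field F] [Fintype F] (hF : Fintype.card F = 9) :
    Nonempty (↥(MulAction.stabilizer Co0 u ⊓ MulAction.stabilizer Co0 v ⊓
      MulAction.stabilizer Co0 x) ≃* PSU 4 F 3) := by
  have hd := (dot_of_sub hu hv).1 huv
  obtain ⟨g, e1, e2, e3⟩ := exists_smul_mc_vertex codeUnique hu hv hd hx
  have hu0 : sqNorm (std48 : GolayPt → ℤ) = 48 := e1 ▸ (sqNorm_smul g u).trans hu
  have hv0 : sqNorm (std32 : GolayPt → ℤ) = 32 := e2 ▸ (sqNorm_smul g v).trans hv
  have hd0 : dotInt (std48 : GolayPt → ℤ) (std32 : GolayPt → ℤ) = 24 := by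
    rw [← e1, ← e2, dotInt_smul, hd]
  have hx0 : mcPoint ∈ mcConfig std48 std32 := by
    rw [smul_mem_mc_iff hu0 (g := 1) (one_smul _ _) (one_smul _ _), one_smul]
    rw [← e3]
    exact (smul_mem_mc_iff hu e1 e2 x).1 hx
  obtain ⟨φ⟩ := Cert.iso (G := stab3 std48 std32 mcPoint)
    (by rw [F9.card_eq]; rfl : Fintype.card F9 = 3 ^ 2) ok (by omega) (by omega)
    (by decide +kernel)
    (fun y => by
      show ((y • std48 = std48 ∧ y • std32 = std32) ∧ y • mcPoint = mcPoint) ↔ _
      rw [← lat_u, ← lat_v, ← lat_x]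
      constructor
      · rintro ⟨⟨a, b⟩, c⟩ r hr
        simp only [base_eq, List.mem_cons, List.not_mem_nil, or_false] at hr
        rcases hr with rfl | rfl | rfl
        exacts [a, b, c]
      · intro h
        exact ⟨⟨h _ (by simp [base_eq]), h _ (by simp [base_eq])⟩, h _ (by simp [base_eq])⟩)
    (by rw [card_stab3 hu0 hv0 hd0 hx0, card_PSU_four])
  obtain ⟨e⟩ : Nonempty (F9 ≃+* F) := ⟨FiniteField.ringEquivOfCardEq (K := F9) (K' := F) (by
    rw [F9.card_eq, hF])⟩
  exact ⟨((stabTripleEquiv g e1 e2 e3).trans φ).trans (UnitaryOrthogonal.psuCongr e)⟩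

end Cfsg.Agent.LeechUnitary.U4
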