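import Cfsg.Agent.SporStruct.LeechPairs
import Cfsg.Agent.SporStruct.LeechCensus
import Cfsg.Agent.Lib.Leech.CodeUnique
import Cfsg.Agent.Lib.Leech.Decomp

/-!
Orders and conjugacy of the stabilisers of pairs of minimal vectors of product -16.
-/

set_option autoImplicit false

namespace Cfsg.Agent.LeechUnitary

open Cfsg Cfsg.Agent.Leech Cfsg.Agent.SporStruct
open scoped Pointwise

/-- Stabilisers of translated pairs are isomorphic. -/
def stabPairEquiv (g : Co0) {v w v' w' : leechLattice} (hv : g • v = v') (hw : g • w = w') :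
    ↥(MulAction.stabilizer Co0 v ⊓ MulAction.stabilizer Co0 w) ≃*
      ↥(MulAction.stabilizer Co0 v' ⊓ MulAction.stabilizer Co0 w') where
  toFun x := ⟨g * x * g⁻¹, by
    constructor <;> show (g * x * g⁻¹) • _ = _
    · rw [← hv, mul_smul, inv_smul_smul, mul_smul, show (x : Co0) • v = v from x.2.1]
    · rw [← hw, mul_smul, inv_smul_smul, mul_smul, show (x : Co0) • w = w from x.2.2]⟩
  invFun y := ⟨g⁻¹ * y * g, by
    constructor <;> show (g⁻¹ * y * g) • _ = _
    · rw [mul_smul, hv, mul_smul, show (y : Co0) • v' = v' from y.2.1, ← hv, inv_smul_smul]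
    · rw [mul_smul, hw, mul_smul, show (y : Co0) • w' = w' from y.2.2, ← hw, inv_smul_smul]⟩
  left_inv x := Subtype.ext (by simp [mul_assoc])
  right_inv y := Subtype.ext (by simp [mul_assoc])
  map_mul' x y := Subtype.ext (by simp [mul_assoc])

theorem card_stab_neg16 {v w : leechLattice} (hv : sqNorm (v : GolayPt → ℤ) = 32)
    (hw : sqNorm (w : GolayPt → ℤ) = 32)
    (hd : dotInt (v : GolayPt → ℤ) (w : GolayPt → ℤ) = -16) :
    Nat.card ↥(MulAction.stabilizer Co0 v ⊓ MulAction.stabilizer Co0 w) = 9196830720 := by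
  set H := MulAction.stabilizer Co0 v with hH
  have ho : MulAction.orbit H w = {x : leechLattice | sqNorm (x : GolayPt → ℤ) = 32 ∧
      dotInt (v : GolayPt → ℤ) (x : GolayPt → ℤ) = 4 * (-4)} := by
    ext x
    constructor
    · rintro ⟨g, rfl⟩
      refine ⟨(sqNorm_smul _ w).trans hw, ?_⟩
      show dotInt (v : GolayPt → ℤ) (((g : Co0) • w : leechLattice) : GolayPt → ℤ) = _
      have hg : (g : Co0) • v = v := g.2
      conv_lhs => rw [← hg]
      rw [dotInt_smul, hd]
      norm_num
    · rintro ⟨h1, h2⟩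
      obtain ⟨g, hg1, hg2⟩ := transitive_neg16 codeUnique hv hw hd hv h1 (h2.trans (by norm_num))
      exact ⟨⟨g, hg1⟩, hg2⟩
  have hc : {x : leechLattice | sqNorm (x : GolayPt → ℤ) = 32 ∧
      dotInt (v : GolayPt → ℤ) (x : GolayPt → ℤ) = 4 * (-4)}.ncard = 4600 := by
    rw [ncard_lattice_set (fun x => sqNorm x = 32 ∧ dotInt (v : GolayPt → ℤ) x = 4 * (-4)),
      census v.2 hv (Or.inl rfl), censusTotal_vals.1]
  have h := Subgroup.card_mul_index (MulAction.stabilizer H w)
  rw [MulAction.index_stabilizer, ho, hc, hH, card_stab32 codeUnique hv] at h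
  have e : Nat.card (MulAction.stabilizer H w) =
      Nat.card ↥(MulAction.stabilizer Co0 v ⊓ MulAction.stabilizer Co0 w) := by
    refine Nat.card_congr
      { toFun := fun g => ⟨g.1.1, g.1.2, g.2⟩
        invFun := fun g => ⟨⟨g.1, g.2.1⟩, g.2.2⟩
        left_inv := fun g => rfl
        right_inv := fun g => rfl }
  rw [← e]
  exact Nat.eq_of_mul_eq_mul_right (by norm_num : 0 < 4600) (h.trans (by norm_num))

end Cfsg.Agent.LeechUnitary
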