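import Cfsg.Agent.LeechUnitary.Sound
import Cfsg.Agent.LeechUnitary.Check6A
import Cfsg.Agent.LeechUnitary.Check6B
import Cfsg.Agent.LeechUnitary.Check6C
import Cfsg.Agent.LeechUnitary.Stab
import Cfsg.Agent.Lib.UnitaryOrthogonal.KleinPSU

/-!
The stabiliser of two minimal vectors of product -16 is `PSU₆(2)`.
-/

set_option autoImplicit false
set_option maxRecDepth 100000

namespace Cfsg.Agent.LeechUnitary.U6

open Cfsg Cfsg.Agent.Unitary Cfsg.Agent.Leech
open Cfsg.Agent.SporStruct CoMatrix
open Cfsg.Agent.CosetEnum He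
open Cfsg.Agent.Golay (pt idx idx_lt pt_idx idx_pt)

theorem ok : cert.Ok 2 where
  scal := by decide +kernel
  scal0 := by decide +kernel
  dec_enc := by decide +kernel
  enc_zero := by decide +kernel
  enc_lt := by decide +kernel
  trace := by decide +kernel
  den_pos := by decide +kernel
  span := fun c hc => by
    cases c
    · exact ⟨0, by rw [zero_smul]; rfl⟩
    · exact ⟨1, by rw [one_smul]; rfl⟩
    · exact absurd hc (by decide +kernel)
    · exact absurd hc (by decide +kernel)
  pts := pts_ok
  complete := complete_ok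
  masks := masks_ok
  sorted := sorted_ok
  sep := sep_ok
  tree := tree_ok
  tau := fun k hk => by
    have : k < 7 := hk
    interval_cases k
    exacts [tau_0, tau_1, tau_2, tau_3, tau_4, tau_5, tau_6]
  inc := fun k hk => by
    have : k < 7 := hk
    interval_cases k
    exacts [inc_0, inc_1, inc_2, inc_3, inc_4, inc_5, inc_6]
  vecs := vecs_ok
  tab := fun k hk => by
    have : k < 7 := hk
    interval_cases k
    exacts [tab_0, tab_1, tab_2, tab_3, tab_4, tab_5, tab_6]
  move := fun k hk => by
    have : k < 7 := hk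
    interval_cases k
    exacts [move_0, move_1, move_2, move_3, move_4, move_5, move_6]
  spans := span_ok

/-- The standard vectors. -/
noncomputable def v0 : leechLattice := lat (base.getD 0 [])
/-- The standard vectors. -/
noncomputable def w0 : leechLattice := lat (base.getD 1 [])

theorem base_vals :
    (∀ p, vecP (base.getD 0 []) p = (if p = none then (4 : ℤ) else 0) + if p = some 0 then 4 else 0) ∧
    (∀ p, vecP (base.getD 1 []) p =
      (if p = none then (-4 : ℤ) else 0) + if p = some 1 then 4 else 0) := by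
  constructor <;> decide +kernel

theorem base_ok : base.all (fun r => inLB r && decide (r.length = 24)) = true := by decide +kernel

theorem coe_v0 : (v0 : GolayPt → ℤ) = four none (some 0) 4 4 := by
  have h := base_ok
  simp only [List.all_eq_true, Bool.and_eq_true, decide_eq_true_eq] at h
  obtain ⟨a, b⟩ := h (base.getD 0 []) (by decide +kernel)
  rw [v0, coe_lat b a]
  funext p
  rw [base_vals.1 p]
  simp [four, Pi.single_apply]

theorem coe_w0 : (w0 : GolayPt → ℤ) = four none (some 1) (-4) 4 := by
  have h := base_ok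
  simp only [List.all_eq_true, Bool.and_eq_true, decide_eq_true_eq] at h
  obtain ⟨a, b⟩ := h (base.getD 1 []) (by decide +kernel)
  rw [w0, coe_lat b a]
  funext p
  rw [base_vals.2 p]
  simp [four, Pi.single_apply]

theorem card_PSU_six : Nat.card (PSU 6 F4 2) = 9196830720 := by
  have h := card_PSU (F := F4) (n := 6) (q := 2) (by rw [F4.card_eq]; rfl) (by omega)
  rw [show Nat.gcd 6 (2 + 1) = 3 from rfl,
    show (2 : ℕ) ^ (6 * (6 - 1) / 2) * ∏ i ∈ Finset.range 6,
      (if Even i then 2 ^ (i + 1) + 1 else 2 ^ (i + 1) - 1) = 82771476480 from by decide +kernel] at h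
  change 3 * ((2 + 1) * Nat.card (PSU 6 F4 2)) = 82771476480 at h
  generalize Nat.card (PSU 6 F4 2) = N at h ⊢
  omega

/-- The comparison. -/
theorem main (v w : leechLattice) (hv : sqNorm (v : GolayPt → ℤ) = 32)
    (hw : sqNorm (w : GolayPt → ℤ) = 32)
    (hd : dotInt (v : GolayPt → ℤ) (w : GolayPt → ℤ) = -16)
    (F : Type) [Field F] [Fintype F] (hF : Fintype.card F = 4) :
    Nonempty (↥(MulAction.stabilizer Co0 v ⊓ MulAction.stabilizer Co0 w) ≃* PSU 6 F 2) := by
  obtain ⟨g, h1, h2⟩ := exists_smul_neg16 codeUnique hv hw hd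
  have e1 : g • v = v0 := Subtype.ext (h1.trans coe_v0.symm)
  have e2 : g • w = w0 := Subtype.ext (h2.trans coe_w0.symm)
  have hv0 : sqNorm (v0 : GolayPt → ℤ) = 32 := e1 ▸ (sqNorm_smul g v).trans hv
  have hw0 : sqNorm (w0 : GolayPt → ℤ) = 32 := e2 ▸ (sqNorm_smul g w).trans hw
  have hd0 : dotInt (v0 : GolayPt → ℤ) (w0 : GolayPt → ℤ) = -16 := by
    rw [← e1, ← e2, dotInt_smul, hd]
  obtain ⟨φ⟩ := Cert.iso (G := MulAction.stabilizer Co0 v0 ⊓ MulAction.stabilizer Co0 w0)
    (by rw [F4.card_eq]; rfl : Fintype.card F4 = 2 ^ 2) ok (by omega) (by omega)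
    (by decide +kernel)
    (fun x => by
      show (x • v0 = v0 ∧ x • w0 = w0) ↔ _
      constructor
      · rintro ⟨a, b⟩ u hu
        simp only [show cert.base = [base.getD 0 [], base.getD 1 []] from rfl, List.mem_cons,
          List.not_mem_nil, or_false] at hu
        rcases hu with rfl | rfl
        · exact a
        · exact b
      · intro h
        exact ⟨h _ (by simp [show cert.base = [base.getD 0 [], base.getD 1 []] from rfl]),
          h _ (by simp [show cert.base = [base.getD 0 [], base.getD 1 []] from rfl])⟩)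
    (by rw [card_stab_neg16 hv0 hw0 hd0, card_PSU_six])
  obtain ⟨e⟩ : Nonempty (F4 ≃+* F) := ⟨FiniteField.ringEquivOfCardEq (K := F4) (K' := F) (by
    rw [F4.card_eq, hF])⟩
  exact ⟨((stabPairEquiv g e1 e2).trans φ).trans (UnitaryOrthogonal.psuCongr e)⟩

end Cfsg.Agent.LeechUnitary.U6
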