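import Cfsg.Agent.LeechUnitary.Cert

/-!
A certificate yields an isomorphism with `PSU`.
-/

set_option autoImplicit false

set_option linter.unusedSectionVars false

namespace Cfsg.Agent.LeechUnitary

open Cfsg Cfsg.Agent.Unitary Cfsg.Agent.Leech
open Cfsg.Agent.SporStruct CoMatrix
open Cfsg.Agent.Golay (pt idx idx_lt pt_idx idx_pt)

open Classical in
/-- A row as a lattice vector. -/
noncomputable def lat (r : List ℤ) : leechLattice :=
  if h : vecP r ∈ leechLattice then ⟨vecP r, h⟩ else 0

theorem coe_lat {r : List ℤ} (hl : r.length = 24) (h : inLB r = true) :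
    ((lat r : leechLattice) : GolayPt → ℤ) = vecP r := by
  have : vecP r ∈ leechLattice := by rw [← inLB_vecL, vecL_vecP hl]; exact h
  rw [lat, dif_pos this]

theorem vecL_lat {r : List ℤ} (hl : r.length = 24) (h : inLB r = true) :
    vecL ((lat r : leechLattice) : GolayPt → ℤ) = r := by
  rw [coe_lat hl h, vecL_vecP hl]

/-- Combinations lie in the span. -/
theorem vecP_combR_mem (W : AddSubgroup (GolayPt → ℤ)) :
    ∀ (c : List ℤ) (B : List (List ℤ)), (∀ r ∈ B, r.length = 24 ∧ vecP r ∈ W) →
      (combR c B).length = 24 ∧ vecP (combR c B) ∈ W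
  | [], B, _ => by
    refine ⟨by simp [combR], ?_⟩
    have : vecP (combR [] B) = 0 := funext fun p => by
      simp only [combR, vecP, Pi.zero_apply]
      rw [List.getD_replicate _ (idx_lt p)]
    rw [this]; exact W.zero_mem
  | a :: as, [], _ => by
    refine ⟨by simp [combR], ?_⟩
    have : vecP (combR (a :: as) []) = 0 := funext fun p => by
      simp only [combR, vecP, Pi.zero_apply]
      rw [List.getD_replicate _ (idx_lt p)]
    rw [this]; exact W.zero_mem
  | a :: as, r :: rs, h => by
    obtain ⟨hr, hW⟩ := h r List.mem_cons_self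
    obtain ⟨hl, hm⟩ := vecP_combR_mem W as rs fun s hs => h s (List.mem_cons_of_mem _ hs)
    rw [combR, addRow]
    split_ifs with ha
    · exact ⟨hl, hm⟩
    refine ⟨by simp [hl, hr], ?_⟩
    have : vecP (List.zipWith (fun x y => x + a * y) (combR as rs) r) =
        vecP (combR as rs) + a • vecP r := funext fun p => by
      have h1 : idx p < (combR as rs).length := hl.symm ▸ idx_lt p
      have h2 : idx p < r.length := hr.symm ▸ idx_lt p
      simp [vecP, List.getD_eq_getElem?_getD, h1, h2]
    rw [this]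
    exact W.add_mem hm (W.zsmul_mem hW _)

/-- The vectors whose lattice point is fixed. -/
def fixedV (g : Co0) : AddSubgroup (GolayPt → ℤ) where
  carrier := {y | ∃ v : leechLattice, (v : GolayPt → ℤ) = y ∧ g • v = v}
  zero_mem' := ⟨0, rfl, by
    have h := smul_add' g (0 : leechLattice) 0
    rw [add_zero] at h
    exact (left_eq_add.1 h)⟩
  add_mem' := by
    rintro _ _ ⟨a, rfl, ha⟩ ⟨b, rfl, hb⟩
    exact ⟨a + b, rfl, by rw [smul_add', ha, hb]⟩
  neg_mem' := by
    rintro _ ⟨a, rfl, ha⟩
    exact ⟨-a, rfl, by rw [smul_neg', ha]⟩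

namespace Cert

variable {F : Type} [Field F] [Fintype F] [DecidableEq F] {n q : ℕ} {C : Cert F n}
  (hF : Fintype.card F = q ^ 2) (hC : C.Ok q) {G : Subgroup Co0}

/-- The incidence data of a certificate. -/
noncomputable def data (C : Cert F n) : Data leechLattice F n C.N C.M where
  x i := lat (C.xl i)
  pv p := C.pv p
  mem i p := (C.mask i).testBit p = true

theorem length_xl (i : ℕ) : (C.xl i).length = 24 := by simp [xl]

include hC in
theorem xl_ok {i : ℕ} (hi : i < C.N) :
    inLB (C.xl i) = true ∧ dotL (C.xl i) (C.xl i) = 32 ∧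
      dig 16 C.unrank (dig 16 C.rank i) = i ∧ dig 16 C.rank i < C.N := by
  have h := hC.vecs
  simp only [okVecs, Bool.and_eq_true, List.all_eq_true, List.mem_range, decide_eq_true_eq,
    beq_iff_eq] at h
  obtain ⟨⟨⟨a, b⟩, c⟩, d⟩ := h.1 i hi
  exact ⟨a, b, c, d⟩

include hC in
theorem vecL_x {i : ℕ} (hi : i < C.N) :
    vecL ((lat (C.xl i) : leechLattice) : GolayPt → ℤ) = C.xl i :=
  vecL_lat (length_xl i) (xl_ok hC hi).1

theorem dotInt_vecL (x y : GolayPt → ℤ) : dotInt x y = dotL (vecL x) (vecL y) := by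
  rw [dotL, vecL, vecL, List.zipWith_map, List.zipWith_self, sum_range_eq, dotInt_sum]
  simp only [pt_idx]

include hC in
theorem sqNorm_x {i : ℕ} (hi : i < C.N) :
    sqNorm ((lat (C.xl i) : leechLattice) : GolayPt → ℤ) = 32 := by
  rw [← dotInt_self, dotInt_vecL, vecL_x hC hi, (xl_ok hC hi).2.1]

theorem xc_of_xl {i j : ℕ} (h : C.xl i = C.xl j) : C.xc i = C.xc j := by
  have key : ∀ k, k < 24 → dig 4 (C.xc i) k = dig 4 (C.xc j) k := by
    intro k hk
    have := congrArg (fun l => List.getD l k 0) h
    simp only [xl, getD_range_map _ _ hk] at this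
    omega
  refine Nat.eq_of_testBit_eq fun t => ?_
  by_cases ht : t < 96
  · have e := congrArg (fun z => Nat.testBit z (t % 4)) (key (t / 4) (by omega))
    simp only [dig, Nat.testBit_mod_two_pow, Nat.testBit_shiftRight] at e
    rw [show 4 * (t / 4) + t % 4 = t from Nat.div_add_mod t 4] at e
    simpa [Nat.mod_lt] using e
  · rw [xc, xc, dig, dig, Nat.testBit_mod_two_pow, Nat.testBit_mod_two_pow]
    simp [ht]

include hC in
theorem x_injective : Function.Injective (data C).x := by
  intro i j h
  have hl : C.xl i = C.xl j := by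
    rw [← vecL_x hC i.2, ← vecL_x hC j.2]
    exact congrArg (fun v : leechLattice => vecL (v : GolayPt → ℤ)) h
  have hc := xc_of_xl hl
  obtain ⟨-, -, hi, hi'⟩ := xl_ok hC i.2
  obtain ⟨-, -, hj, hj'⟩ := xl_ok hC j.2
  have h := hC.vecs
  simp only [okVecs, Bool.and_eq_true, List.all_eq_true, List.mem_range, decide_eq_true_eq] at h
  have mono : ∀ a b, a < b → b < C.N →
      C.xc (dig 16 C.unrank a) < C.xc (dig 16 C.unrank b) := by
    intro a b hab
    induction b with
    | zero => omega
    | succ b ih =>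
      intro hb
      rcases Nat.lt_or_eq_of_le (Nat.le_of_lt_succ hab) with hlt | rfl
      · exact (ih hlt (by omega)).trans (h.2 b (by omega))
      · exact h.2 a (by omega)
  refine Fin.ext ?_
  rcases lt_trichotomy (dig 16 C.rank i) (dig 16 C.rank j) with hlt | he | hlt
  · have := mono _ _ hlt hj'
    rw [hi, hj] at this; omega
  · rw [← hi, ← hj, he]
  · have := mono _ _ hlt hi'
    rw [hi, hj] at this; omega

include hC in
theorem planes_spec {i : ℕ} (hi : i < C.N) :
    ∃ L : List ℕ, (L, i) ∈ C.planes.zipIdx ∧ L.length = C.K ∧ L.Nodup ∧ (∀ p ∈ L, p < C.M) ∧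
      maskL L = C.mask i := by
  have h := hC.masks
  simp only [okMasks, Bool.and_eq_true, List.all_eq_true, decide_eq_true_eq, beq_iff_eq] at h
  have hi' : i < C.planes.length := h.1.symm ▸ hi
  have hmem : (C.planes[i], i) ∈ C.planes.zipIdx :=
    List.mem_iff_getElem.2 ⟨i, by simpa using hi', by simp⟩
  obtain ⟨⟨⟨a, b⟩, c⟩, d⟩ := h.2 _ hmem
  exact ⟨_, hmem, a, b, c, d⟩

include hC in
theorem mask_inj {i j : ℕ} (hi : i < C.N) (hj : j < C.N) (h : C.mask i = C.mask j) : i = j := by
  have hs := hC.sorted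
  simp only [okSorted, List.all_eq_true, List.mem_range, decide_eq_true_eq] at hs
  have mono : ∀ a b, a < b → b < C.N → C.mask a < C.mask b := by
    intro a b hab
    induction b with
    | zero => omega
    | succ b ih =>
      intro hb
      rcases Nat.lt_or_eq_of_le (Nat.le_of_lt_succ hab) with hlt | rfl
      · exact (ih hlt (by omega)).trans (hs b (by omega))
      · exact hs a (by omega)
  rcases lt_trichotomy i j with hlt | he | hlt
  · have := mono _ _ hlt hj; omega
  · exact he
  · have := mono _ _ hlt hi; omega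

include hC in
theorem pv_spec {p : ℕ} (hp : p < C.M) :
    herm q (C.pv p) (C.pv p) = 0 ∧
      ∀ l : F, l ≠ 0 → dig 16 C.look (C.code (l • C.pv p)) = p + 1 := by
  have h := hC.pts
  simp only [okPts, Bool.and_eq_true, List.all_eq_true, List.mem_range, decide_eq_true_eq,
    beq_iff_eq] at h
  exact ⟨(h p hp).1, fun l hl => (h p hp).2 l (hC.scal l hl)⟩

include hC in
theorem complete_spec :
    (C.dec 0 = 0 ∧ dig 16 C.look 0 = 0) ∧ ∀ m < C.b ^ n, m = 0 ∨ herm q (C.vec m) (C.vec m) ≠ 0 ∨
      ∃ p < C.M, ∃ l : F, C.vec m = l • C.pv p := by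
  have h := hC.complete
  simp only [okComplete, Bool.and_eq_true, List.all_eq_true, List.mem_range, Bool.or_eq_true,
    decide_eq_true_eq, beq_iff_eq, Bool.not_eq_true', decide_eq_false_iff_not,
    List.any_eq_true, veq_iff] at h
  refine ⟨h.1, fun m hm => ?_⟩
  rcases h.2 m hm with (a | a) | ⟨a, l, -, e⟩
  · exact Or.inl a
  · exact Or.inr (Or.inl a)
  · exact Or.inr (Or.inr ⟨_, a, l, e⟩)

theorem fold_enc (b : ℕ) (e : F → ℕ) (he : ∀ a, e a < b) :
    ∀ {k : ℕ} (x : Fin k → F),
      (List.finRange k).foldr (fun i m => e (x i) + b * m) 0 < b ^ k ∧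
        ∀ i : Fin k, (List.finRange k).foldr (fun i m => e (x i) + b * m) 0 / b ^ (i : ℕ) % b =
          e (x i)
  | 0, x => ⟨by simp, fun i => i.elim0⟩
  | k + 1, x => by
    rw [List.finRange_succ, List.foldr_cons, List.foldr_map]
    obtain ⟨h1, h2⟩ := fold_enc b e he (k := k) fun i => x i.succ
    generalize (List.finRange k).foldr (fun i m => e (x i.succ) + b * m) 0 = z at h1 h2 ⊢
    have h0 := he (x 0)
    refine ⟨?_, fun i => ?_⟩
    · calc e (x 0) + b * z < b + b * z := by omega
        _ = b * (z + 1) := by ring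
        _ ≤ b * b ^ k := Nat.mul_le_mul_left b h1
        _ = b ^ (k + 1) := by ring
    · refine Fin.cases ?_ (fun j => ?_) i
      · simp [Nat.mod_eq_of_lt h0]
      · rw [Fin.val_succ, pow_succ', ← Nat.div_div_eq_div_mul,
          Nat.add_mul_div_left _ _ (by omega), Nat.div_eq_of_lt h0, zero_add, h2]

include hC in
theorem code_spec (x : Fin n → F) : C.code x < C.b ^ n ∧ C.vec (C.code x) = x := by
  obtain ⟨h1, h2⟩ := fold_enc C.b C.enc hC.enc_lt x
  exact ⟨h1, funext fun i => by rw [vec, code, h2, hC.dec_enc]⟩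

include hC in
theorem vec_zero : C.vec 0 = 0 := funext fun i => by simp [vec, (complete_spec hC).1.1]

include hC in
theorem code_zero : C.code (0 : Fin n → F) = 0 := by
  simp only [code, Pi.zero_apply, hC.enc_zero, zero_add]
  induction List.finRange n with
  | nil => rfl
  | cons a L ih => simp [List.foldr_cons, ih]

include hC in
theorem pv_inj {p r : ℕ} (hp : p < C.M) (hr : r < C.M) {l : F}
    (h : C.pv p = l • C.pv r) : l ≠ 0 → p = r := fun hl => by
  have a := (pv_spec hC hp).2 1 one_ne_zero
  have b := (pv_spec hC hr).2 l hl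
  rw [one_smul, h] at a
  omega

include hC in
theorem pv_ne {p : ℕ} (hp : p < C.M) : C.pv p ≠ 0 := by
  intro h
  have a := (pv_spec hC hp).2 1 one_ne_zero
  rw [one_smul, h, code_zero hC, (complete_spec hC).1.2] at a
  omega

include hC in
theorem good (hG : ∀ g : Co0, g ∈ G ↔ ∀ u ∈ C.base, g • lat u = lat u) :
    Good (G := G) (data C) q C.c₀ where
  faithful g hg := by
    apply Subtype.ext
    have hs := hC.spans
    simp only [okSpan, Bool.and_eq_true, List.all_eq_true, List.mem_range, decide_eq_true_eq] at hs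
    obtain ⟨⟨hb, hbas⟩, hk⟩ := hs
    refine ext_frame fun p => ?_
    have := (vecP_combR_mem (fixedV (g : Co0)) (C.coef.getD (idx p) [])
      (C.base ++ C.basis.map C.xl) ?_).2
    · obtain ⟨v, hv, hgv⟩ := this
      have e : v = C.den • frame p := by
        apply Subtype.ext
        rw [hv, hk _ (idx_lt p), AddSubgroup.coe_nsmul]
        funext k
        simp only [vecP, getD_range_map _ _ (idx_lt k), Golay.idx_injective.eq_iff]
        show _ = C.den • (Pi.single p 8 : GolayPt → ℤ) k
        rw [Pi.single_apply, nsmul_eq_mul]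
        split_ifs <;> ring
      have hsm : ∀ (m : ℕ) (y : leechLattice), (g : Co0) • (m • y) = m • ((g : Co0) • y) := by
        intro m y
        induction m with
        | zero =>
          have := smul_sub' (g : Co0) y y
          simpa using this
        | succ m ih => rw [succ_nsmul, succ_nsmul, smul_add', ih]
      rw [e, hsm] at hgv
      rw [OneMemClass.coe_one, one_smul]
      apply Subtype.ext
      funext k
      have := congrArg (fun z : leechLattice => (z : GolayPt → ℤ) k) hgv
      simp only [AddSubgroup.coe_nsmul, Pi.smul_apply, nsmul_eq_mul] at this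
      exact mul_left_cancel₀ (Int.natCast_ne_zero.2 hC.den_pos) this
    · intro r hr
      rcases List.mem_append.1 hr with hr | hr
      · exact ⟨(hb r hr).2, lat r, coe_lat (hb r hr).2 (hb r hr).1, (hG g).1 g.2 r hr⟩
      · obtain ⟨i, hi, rfl⟩ := List.mem_map.1 hr
        refine ⟨length_xl i, lat (C.xl i), coe_lat (length_xl i) (xl_ok hC (hbas i hi)).1, ?_⟩
        exact hg ⟨i, hbas i hi⟩
  mem_inj i j h := by
    obtain ⟨L, -, hl, hn, hb, hm⟩ := planes_spec hC i.2
    obtain ⟨L', -, hl', hn', hb', hm'⟩ := planes_spec hC j.2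
    have sub : L.toFinset ⊆ L'.toFinset := by
      intro p hp
      rw [List.mem_toFinset] at hp ⊢
      have := h ⟨p, hb p hp⟩ (by show (C.mask i).testBit p = true; rw [← hm, testBit_maskL]; exact hp)
      change (C.mask j).testBit p = true at this
      rwa [← hm', testBit_maskL] at this
    have he : L.toFinset = L'.toFinset := Finset.eq_of_subset_of_card_le sub (by
      rw [List.toFinset_card_of_nodup hn, List.toFinset_card_of_nodup hn', hl, hl'])
    refine Fin.ext (mask_inj hC i.2 j.2 (Nat.eq_of_testBit_eq fun t => Bool.eq_iff_iff.2 ?_))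
    rw [← hm, ← hm', testBit_maskL, testBit_maskL, ← List.mem_toFinset, he, List.mem_toFinset]
  sep p r h := by
    have hs := hC.sep
    simp only [okSep, Bool.and_eq_true, List.all_eq_true, List.mem_range, decide_eq_true_eq,
      beq_iff_eq] at hs
    obtain ⟨⟨⟨ha, hb⟩, hc⟩, he⟩ := hs p p.2
    have key : ∀ {a}, a < C.N → (C.mask a).testBit p = true → (C.mask a).testBit r = true :=
      fun {a} ha hp => h ⟨a, ha⟩ hp
    have hp : (1 <<< (p : ℕ)).testBit p = true := by simp [Nat.one_shiftLeft]
    rw [← he] at hp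
    simp only [Nat.testBit_and, Bool.and_eq_true] at hp
    have : (1 <<< (p : ℕ)).testBit r = true := by
      rw [← he]
      simp only [Nat.testBit_and, Bool.and_eq_true]
      exact ⟨⟨key ha hp.1.1, key hb hp.1.2⟩, key hc hp.2⟩
    rw [Nat.one_shiftLeft, Nat.testBit_two_pow, decide_eq_true_eq] at this
    exact Fin.ext this
  pv_inj p r l h := by
    by_cases hl : l = 0
    · subst hl
      exact absurd (h.trans (zero_smul _ _)) (pv_ne hC p.2)
    · exact Fin.ext (pv_inj hC p.2 r.2 h hl)
  pv_ne p := pv_ne hC p.2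
  x_inj := x_injective hC
  cover p := by
    have hs := hC.sep
    simp only [okSep, Bool.and_eq_true, List.all_eq_true, List.mem_range, decide_eq_true_eq,
      beq_iff_eq] at hs
    obtain ⟨⟨⟨ha, -⟩, -⟩, he⟩ := hs p p.2
    have hp : (1 <<< (p : ℕ)).testBit p = true := by simp [Nat.one_shiftLeft]
    rw [← he] at hp
    simp only [Nat.testBit_and, Bool.and_eq_true] at hp
    exact ⟨⟨_, ha⟩, hp.1.1⟩
  pv_iso p := (pv_spec hC p.2).1
  complete u hu := by
    obtain ⟨h1, h2⟩ := code_spec hC u
    by_cases hM : C.M = 0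
    · have hs := hC.tree
      simp [okTree, hM] at hs
    rcases (complete_spec hC).2 _ h1 with e | e | ⟨p, hp, l, e⟩
    · refine ⟨⟨0, by omega⟩, 0, ?_⟩
      rw [← h2, e, vec_zero hC, zero_smul]
    · rw [h2] at e; exact absurd hu e
    · exact ⟨⟨p, hp⟩, l, h2.symm.trans e⟩
  trace := hC.trace
  span := hC.span

include hF hC in
/-- The isomorphism. -/
theorem iso (hn : 2 ≤ n) (h32 : ¬ (n = 3 ∧ q = 2)) (hR : 0 < C.cens.length)
    (hG : ∀ g : Co0, g ∈ G ↔ ∀ u ∈ C.base, g • lat u = lat u)
    (hcard : Nat.card G = Nat.card (PSU n F q)) : Nonempty (G ≃* PSU n F q) := by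
  have := finite_Co0 codeUnique
  have hgood := good hC hG
  refine iso_of_good (data C) hF hn hgood ?_ hcard
  have hbase : ∀ u ∈ C.base, inLB u = true ∧ u.length = 24 := by
    have hs := hC.spans
    simp only [okSpan, Bool.and_eq_true, List.all_eq_true, decide_eq_true_eq] at hs
    exact hs.1.1
  have hgen : ∀ k : Fin C.cens.length, ∃ g : G, ∃ t : SU n F q,
      (∀ x, t • x = C.act q k x) ∧ Compat (data C) (g, t) := by
    intro k
    have ht := hC.tab k k.2
    simp only [okTab, Bool.and_eq_true, List.all_eq_true, decide_eq_true_eq] at ht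
    obtain ⟨⟨h1, h2⟩, hfix⟩ := ht
    obtain ⟨g, hg⟩ := exists_elem h1 h2
    have hgG : g ∈ G := (hG g).2 fun u hu => by
      obtain ⟨a, b⟩ := hbase u hu
      apply Subtype.ext
      apply vecL_inj
      rw [← mapV_rows, hg, vecL_lat b a, hfix u hu]
    have hτ := hC.tau k k.2
    simp only [okTau, Bool.and_eq_true, List.all_eq_true, List.mem_range, decide_eq_true_eq,
      List.any_eq_true, veq_iff] at hτ
    refine ⟨⟨g, hgG⟩, tv (c := C.c₀) hF (pv_spec hC hτ.1).1 hC.trace,
      fun x => tv_smul hF (pv_spec hC hτ.1).1 hC.trace x, ?_⟩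
    intro i
    have hinc := hC.inc k k.2
    simp only [okInc, List.all_eq_true, Bool.and_eq_true, decide_eq_true_eq] at hinc
    obtain ⟨L, hL, -, -, hb, hm⟩ := planes_spec hC i.2
    obtain ⟨hj, hall⟩ := hinc _ hL
    refine ⟨⟨_, hj⟩, ?_, fun p hp => ?_⟩
    · have hmv := hC.move k k.2
      simp only [okMove, List.all_eq_true, List.mem_range, decide_eq_true_eq] at hmv
      apply Subtype.ext
      apply vecL_inj
      show vecL ((g • lat (C.xl i) : leechLattice) : GolayPt → ℤ) = vecL ((lat _ : leechLattice) : _)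
      rw [← mapP_rows g _ (by rw [sqNorm_x hC i.2]; norm_num), hg, vecL_x hC i.2, hmv i i.2]
      exact (vecL_x hC hj).symm
    · obtain ⟨hr, l, -, hl⟩ := hτ.2 p p.2
      refine ⟨⟨_, hr⟩, hall p ?_, l, ?_⟩
      · change (C.mask i).testBit p = true at hp
        rwa [← hm, testBit_maskL] at hp
      · show (tv (c := C.c₀) hF (pv_spec hC hτ.1).1 hC.trace : SU n F q) • C.pv p = _
        rw [tv_smul]
        exact hl
  choose g t ht hcompat using hgen
  have htree := hC.tree
  simp only [okTree, Bool.and_eq_true, List.all_eq_true, List.mem_range, decide_eq_true_eq,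
    beq_iff_eq, Bool.or_eq_true, veq_iff] at htree
  refine surj_of_orbit (data C) hF hgood h32 ⟨0, htree.1.2⟩ g t hcompat ⟨0, hR⟩ (fun x => ?_)
    fun p hp => ?_
  · rw [ht, act]
    simp only [htree.1.1]
    rfl
  · rcases htree.2 p p.2 with e | ⟨⟨h1, h2⟩, h3⟩
    · exact absurd (Fin.ext e) hp
    · refine ⟨⟨_, h2⟩, ⟨_, h1.trans p.2⟩, h1, ?_⟩
      rw [ht]
      exact h3

end Cert

end Cfsg.Agent.LeechUnitary
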